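import Cfsg.Agent.Lib.Recog.SporBound.OrbitChain
import Cfsg.Agent.Lib.ThreeTrans.CosetIndex.Suz1782.Data

set_option autoImplicit false
set_option maxRecDepth 100000

/-! An orbit chain for the action of Suz on 1782 points (owner: helper13). -/

namespace CfsgLib.Recog.SporBound.SuzChain
open CfsgLib.Recog.SporBound.OrbitChain CfsgLib.ThreeTrans.CosetIndex

def lev0 : Level :=
  ⟨0, [[0], [1], [2], [3], [4], [5], [6]], [(0, 6), (1, 1), (2, 0), (2, 2), (2, 5), (3, 1), (3, 2), (4, 3), (4, 5), (6, 2), (7, 1), (7, 3), (8, 2), (8, 4), (8, 5), (9, 1), (10, 1), (10, 3), (11, 0), (11, 3), (11, 5), (11, 6), (12, 2), (12, 4), (13, 1), (13, 4), (13, 5), (14, 5), (15, 1), (16, 6), (17, 3), (17, 5), (18, 2), (18, 4), (19, 3), (19, 5), (20, 2), (20, 4), (20, 5), (20, 6), (22, 5), (23, 1), (23, 4), (25, 0), (25, 4), (25, 5), (25, 6), (26, 3), (26, 5), (27, 1), (28, 1), (29, 2), (31, 2), (31, 4), (31, 5), (33, 1), (33, 4), (35, 4), (35, 5), (37, 1), (37, 3),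 (37, 4), (37, 5), (37, 6), (38, 5), (38, 6), (40, 5), (41, 1), (42, 0), (42, 4), (42, 5), (42, 6), (43, 3), (44, 4), (44, 5), (44, 6), (45, 3), (45, 5), (45, 6), (46, 1), (46, 6), (47, 5), (48, 2), (48, 5), (49, 1), (51, 2), (53, 1), (53, 4), (53, 5), (54, 5), (56, 4), (56, 5), (57, 3), (58, 5), (60, 0), (60, 3), (60, 4), (60, 5), (60, 6), (61, 2), (61, 4), (61, 5), (62, 3), (62, 5), (62, 6), (63, 1), (64, 5), (66, 5), (67, 1), (69, 4), (69, 5), (69, 6), (70, 3), (70, 5), (70, 6), (71, 6), (72, 5), (73, 2), (74, 3), (74, 5), (74, 6), (75, 1), (77, 2), (77, 5), (77, 6), (78, 1), (78, 6), (79, 5), (81, 1), (82, 1), (83, 1), (83, 5), (84, 1), (87, 4), (87, 5), (88, 3), (88, 5), (89, 1), (91, 3), (91, 5), (92, 6), (93, 2), (95, 1), (95, 4), (95, 5), (95, 6), (96, 4), (96, 5), (96, 6), (97, 3), (97, 5), (97, 6), (98, 1), (98, 6), (99, 5), (100, 4), (101, 3), (101, 5), (102, 1), (103, 2), (103, 5), (103, 6), (104, 1), (105, 5), (106, 0), (106, 6),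 (107, 1), (108, 1), (109, 2), (110, 3), (110, 5), (110, 6), (111, 1), (113, 2), (113, 5), (113, 6), (114, 6), (115, 5), (116, 1), (117, 1), (118, 1), (119, 2), (119, 5), (119, 6), (120, 1), (122, 0), (122, 2), (122, 6), (123, 1), (123, 3), (123, 5), (123, 6), (124, 1), (124, 6), (125, 5), (127, 1), (128, 1), (129, 0), (129, 2), (129, 5), (130, 2), (130, 6), (131, 0), (131, 5), (131, 6), (132, 1), (133, 2), (134, 3), (134, 5), (135, 1), (136, 2), (136, 5), (137, 1), (138, 0), (138, 6), (139, 2), (139, 5), (140, 6), (141, 1), (142, 1), (143, 4), (143, 5), (143, 6), (144, 3), (144, 5), (144, 6), (145, 1), (146, 1), (147, 3), (147, 5), (147, 6), (148, 1), (148, 6), (149, 5), (150, 2), (150, 5), (150, 6), (151, 1), (151, 6), (152, 5), (153, 0), (156, 3), (157, 2), (157, 5), (158, 1), (159, 2), (160, 1), (160, 5), (160, 6), (161, 1), (162, 5), (163, 0), (163, 6), (164, 1), (165, 1), (166, 5), (167, 0), (167, 2), (168, 2), (169, 3), (170, 2), (170,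 5), (170, 6), (171, 1), (173, 0), (173, 2), (173, 6), (174, 1), (174, 3), (174, 5), (174, 6), (175, 6), (176, 5), (177, 1), (178, 1), (179, 0), (179, 2), (180, 2), (180, 6), (181, 0), (181, 5), (181, 6), (182, 1), (182, 3), (182, 5), (182, 6), (183, 1), (185, 0), (185, 2), (185, 6), (186, 1), (186, 2), (187, 3), (187, 6), (189, 0), (189, 3), (189, 5), (189, 6), (190, 4), (190, 5), (190, 6), (191, 1), (191, 6), (192, 1), (192, 5), (193, 2), (194, 1), (195, 1), (196, 0), (196, 2), (196, 5), (197, 2), (197, 6), (198, 2), (199, 3), (199, 5), (201, 3), (201, 6), (203, 1), (203, 5), (203, 6), (204, 1), (204, 6), (205, 5), (206, 0), (206, 2), (206, 6), (208, 2), (208, 5), (209, 1), (211, 1), (211, 5), (212, 1), (213, 0), (213, 6), (216, 1), (216, 3), (216, 5), (217, 6), (218, 1), (220, 0), (220, 5), (220, 6), (221, 3), (221, 5), (221, 6), (223, 1), (224, 2), (224, 5), (224, 6), (225, 1), (226, 1), (229, 2), (229, 5), (229, 6), (230, 1), (230, 6), (231,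 5), (235, 1), (235, 3), (235, 5), (235, 6), (236, 1), (236, 6), (237, 5), (238, 0), (242, 2), (243, 1), (243, 3), (243, 5), (244, 1), (245, 2), (247, 0), (247, 5), (247, 6), (248, 1), (249, 1), (249, 5), (250, 0), (250, 2), (250, 6), (251, 1), (252, 1), (253, 5), (254, 0), (254, 2), (257, 2), (258, 3), (261, 1), (261, 3), (261, 5), (261, 6), (262, 1), (264, 0), (264, 2), (264, 6), (268, 0), (268, 3), (268, 5), (268, 6), (269, 2), (269, 4), (269, 5), (269, 6), (270, 1), (270, 6), (271, 1), (271, 5), (272, 1), (273, 1), (274, 0), (274, 2), (275, 2), (275, 6), (278, 3), (278, 6), (280, 1), (280, 5), (280, 6), (281, 6), (282, 5), (283, 0), (283, 3), (283, 5), (283, 6), (284, 4), (284, 5), (284, 6), (285, 1), (286, 1), (287, 0), (287, 2), (287, 6), (288, 1), (288, 2), (289, 6), (292, 3), (293, 6), (294, 1), (295, 1), (295, 3), (295, 5), (295, 6), (296, 2), (296, 4), (296, 5), (296, 6), (297, 1), (297, 6), (298, 1), (298, 5), (299, 5), (299, 6), (300,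 1), (300, 6), (301, 1), (301, 5), (302, 0), (302, 2), (302, 6), (303, 1), (307, 0), (307, 2), (307, 5), (308, 2), (308, 6), (309, 2), (310, 5), (312, 6), (314, 3), (315, 5), (317, 2), (317, 6), (318, 1), (319, 2), (319, 5), (320, 1), (321, 1), (322, 0), (322, 2), (323, 1), (325, 1), (325, 2), (326, 6), (327, 5), (328, 1), (328, 3), (328, 5), (329, 1), (331, 0), (331, 5), (331, 6), (332, 1), (333, 0), (333, 2), (333, 6), (336, 0), (336, 3), (336, 5), (336, 6), (337, 2), (337, 5), (338, 1), (338, 6), (339, 1), (341, 1), (341, 5), (342, 6), (343, 5), (344, 2), (344, 5), (344, 6), (346, 1), (348, 1), (348, 5), (348, 6), (349, 1), (350, 1), (353, 1), (353, 3), (353, 5), (353, 6), (354, 1), (354, 6), (355, 5), (359, 0), (359, 3), (359, 5), (359, 6), (360, 4), (360, 5), (360, 6), (361, 1), (361, 6), (362, 1), (362, 5), (363, 0), (363, 2), (367, 1), (368, 0), (368, 3), (368, 5), (368, 6), (369, 5), (370, 1), (371, 2), (372, 3), (373, 1), (373, 5), (373,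 6), (374, 1), (374, 6), (375, 1), (375, 5), (376, 0), (376, 2), (376, 6), (377, 0), (377, 5), (378, 1), (379, 1), (379, 2), (380, 3), (380, 6), (381, 5), (382, 0), (382, 2), (385, 2), (387, 3), (389, 0), (389, 3), (389, 5), (389, 6), (390, 4), (390, 5), (390, 6), (391, 1), (392, 1), (393, 0), (393, 2), (393, 6), (395, 3), (397, 1), (397, 3), (397, 5), (397, 6), (398, 2), (398, 4), (398, 5), (398, 6), (399, 1), (399, 6), (400, 1), (400, 5), (401, 1), (401, 4), (401, 5), (401, 6), (402, 5), (402, 6), (403, 1), (403, 6), (404, 1), (404, 5), (405, 0), (405, 6), (406, 1), (409, 0), (409, 2), (409, 5), (410, 2), (410, 6), (413, 6), (415, 2), (415, 6), (417, 2), (418, 1), (419, 1), (420, 1), (422, 1), (422, 3), (422, 5), (422, 6), (423, 2), (423, 4), (423, 5), (424, 1), (424, 6), (425, 1), (425, 5), (426, 5), (426, 6), (427, 1), (428, 1), (429, 0), (429, 2), (429, 6), (430, 0), (430, 5), (431, 1), (431, 2), (432, 6), (436, 1), (438, 1), (440, 0), (440,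 2), (440, 3), (440, 5), (440, 6), (441, 2), (441, 4), (441, 5), (441, 6), (443, 1), (444, 4), (444, 5), (445, 5), (445, 6), (446, 1), (446, 6), (447, 1), (447, 5), (448, 0), (448, 2), (448, 6), (449, 1), (452, 1), (452, 6), (453, 1), (453, 5), (454, 0), (454, 2), (454, 6), (455, 1), (458, 1), (458, 2), (458, 6), (459, 6), (460, 1), (460, 5), (461, 0), (461, 2), (461, 5), (462, 2), (463, 5), (465, 6), (469, 1), (472, 1), (472, 6), (473, 1), (475, 5), (476, 1), (477, 0), (477, 2), (477, 6), (478, 0), (478, 2), (478, 5), (479, 1), (479, 2), (481, 0), (481, 2), (481, 5), (482, 0), (482, 2), (482, 5), (483, 1), (484, 5), (485, 1), (486, 3), (486, 5), (487, 5), (488, 1), (489, 2), (490, 5), (491, 1), (492, 5), (493, 0), (493, 2), (493, 6), (494, 2), (495, 3), (495, 6), (497, 1), (497, 3), (497, 5), (498, 2), (498, 5), (498, 6), (499, 1), (499, 6), (500, 5), (501, 1), (501, 5), (502, 1), (503, 0), (503, 6), (504, 1), (505, 2), (506, 0), (506, 2), (506,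 5), (507, 1), (508, 1), (509, 1), (510, 1), (510, 3), (510, 5), (510, 6), (512, 1), (514, 0), (514, 5), (515, 1), (517, 2), (519, 0), (519, 3), (519, 5), (519, 6), (520, 4), (520, 5), (520, 6), (521, 1), (521, 6), (522, 1), (522, 5), (523, 2), (526, 1), (526, 5), (526, 6), (527, 5), (528, 1), (529, 5), (530, 5), (531, 1), (531, 6), (532, 5), (533, 0), (533, 2), (533, 6), (534, 1), (535, 5), (536, 1), (537, 2), (538, 3), (539, 0), (539, 5), (539, 6), (540, 1), (540, 3), (540, 5), (540, 6), (541, 2), (541, 5), (541, 6), (542, 1), (542, 6), (543, 5), (544, 1), (545, 0), (545, 2), (545, 6), (546, 3), (547, 2), (548, 0), (548, 2), (548, 5), (549, 1), (551, 0), (551, 2), (551, 6), (553, 5), (554, 1), (555, 1), (555, 2), (555, 6), (556, 3), (556, 6), (557, 5), (558, 5), (559, 1), (559, 6), (560, 0), (560, 2), (560, 6), (561, 2), (562, 1), (562, 3), (563, 2), (563, 4), (563, 6), (564, 1), (564, 5), (566, 2), (570, 1), (570, 3), (570, 5), (570, 6), (571,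 2), (571, 4), (571, 5), (571, 6), (572, 1), (572, 6), (573, 1), (573, 5), (574, 5), (574, 6), (575, 1), (576, 1), (577, 0), (577, 2), (577, 6), (578, 0), (578, 5), (579, 2), (580, 3), (580, 6), (582, 2), (583, 0), (583, 2), (583, 5), (584, 4), (584, 5), (587, 1), (587, 4), (587, 5), (588, 5), (588, 6), (589, 1), (590, 1), (590, 5), (591, 0), (591, 6), (592, 1), (595, 0), (595, 4), (595, 5), (596, 3), (596, 5), (596, 6), (597, 1), (599, 1), (599, 6), (600, 1), (600, 5), (601, 0), (601, 2), (601, 6), (602, 1), (605, 1), (605, 6), (606, 1), (606, 5), (607, 0), (607, 2), (607, 5), (608, 2), (609, 3), (609, 5), (611, 6), (614, 1), (617, 0), (617, 2), (617, 6), (618, 0), (618, 5), (619, 0), (619, 2), (619, 5), (620, 0), (620, 3), (621, 2), (621, 4), (621, 5), (624, 4), (624, 5), (625, 5), (626, 1), (626, 6), (627, 0), (627, 2), (627, 6), (629, 5), (630, 1), (631, 1), (632, 1), (633, 0), (633, 2), (633, 6), (634, 0), (634, 5), (635, 1), (635, 2), (635,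 6), (636, 3), (636, 6), (637, 5), (638, 5), (640, 2), (642, 1), (645, 3), (645, 5), (646, 5), (647, 2), (647, 4), (647, 5), (647, 6), (649, 5), (650, 1), (650, 4), (650, 5), (651, 5), (651, 6), (653, 1), (654, 5), (655, 5), (656, 1), (656, 6), (657, 1), (657, 6), (658, 1), (658, 5), (659, 0), (659, 2), (659, 6), (660, 1), (663, 2), (664, 6), (665, 1), (666, 0), (666, 2), (666, 5), (667, 0), (667, 2), (667, 6), (668, 1), (671, 1), (671, 2), (671, 6), (673, 1), (674, 0), (674, 2), (676, 1), (676, 6), (678, 5), (679, 0), (679, 2), (679, 5), (681, 1), (681, 2), (681, 5), (682, 3), (682, 5), (685, 1), (688, 5), (691, 1), (692, 0), (692, 2), (693, 1), (693, 2), (694, 3), (696, 1), (696, 2), (696, 5), (697, 5), (698, 6), (699, 0), (699, 2), (699, 5), (699, 6), (700, 1), (701, 2), (702, 3), (702, 5), (704, 2), (705, 1), (705, 5), (707, 0), (707, 5), (707, 6), (708, 1), (709, 0), (709, 2), (709, 6), (711, 1), (712, 1), (713, 0), (713, 2), (713, 6), (714,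 3), (715, 1), (716, 0), (716, 2), (716, 6), (717, 1), (718, 1), (718, 2), (718, 6), (719, 3), (719, 6), (720, 5), (722, 4), (722, 6), (723, 1), (724, 0), (724, 5), (725, 5), (726, 1), (728, 1), (728, 6), (729, 5), (730, 0), (730, 6), (731, 1), (732, 1), (733, 5), (734, 1), (735, 0), (735, 2), (735, 6), (736, 1), (736, 6), (737, 1), (737, 5), (738, 0), (738, 2), (738, 5), (739, 3), (740, 2), (740, 5), (741, 5), (742, 1), (742, 6), (743, 2), (744, 0), (744, 2), (745, 0), (745, 2), (745, 6), (746, 0), (746, 3), (746, 5), (747, 5), (747, 6), (748, 1), (751, 5), (755, 1), (755, 3), (755, 5), (755, 6), (756, 2), (756, 5), (757, 1), (758, 5), (759, 5), (760, 1), (760, 6), (761, 5), (762, 0), (762, 2), (762, 6), (763, 1), (764, 5), (765, 1), (766, 3), (767, 5), (770, 1), (771, 0), (772, 1), (773, 1), (773, 6), (774, 0), (774, 2), (774, 6), (775, 1), (776, 1), (777, 1), (777, 2), (777, 6), (779, 1), (779, 5), (780, 0), (783, 1), (783, 3), (784, 4), (785,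 5), (787, 5), (788, 5), (789, 5), (790, 1), (792, 3), (793, 1), (794, 5), (795, 0), (795, 2), (795, 6), (797, 1), (798, 0), (798, 2), (798, 6), (799, 1), (799, 2), (799, 6), (800, 3), (800, 6), (801, 5), (802, 4), (803, 3), (804, 5), (805, 3), (805, 5), (806, 1), (807, 0), (807, 2), (807, 6), (808, 2), (811, 1), (812, 0), (812, 2), (812, 6), (813, 0), (813, 2), (813, 6), (814, 1), (814, 3), (814, 6), (815, 1), (816, 4), (816, 6), (817, 1), (817, 5), (818, 1), (819, 1), (820, 0), (820, 2), (820, 6), (821, 1), (822, 1), (822, 2), (822, 6), (823, 3), (823, 6), (825, 1), (825, 3), (826, 0), (826, 3), (826, 5), (826, 6), (827, 4), (828, 4), (829, 6), (830, 1), (830, 5), (831, 0), (831, 5), (832, 1), (835, 2), (835, 4), (835, 5), (836, 1), (838, 5), (839, 5), (840, 1), (841, 5), (842, 0), (842, 2), (842, 6), (844, 5), (845, 1), (846, 1), (848, 0), (848, 2), (848, 6), (849, 0), (849, 5), (850, 1), (850, 2), (850, 6), (851, 3), (851, 6), (852, 5), (853,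 5), (855, 1), (855, 3), (856, 6), (857, 1), (858, 1), (858, 3), (862, 5), (867, 1), (868, 1), (868, 5), (869, 0), (874, 2), (876, 3), (878, 5), (878, 6), (882, 0), (882, 2), (882, 6), (883, 1), (886, 2), (886, 6), (887, 6), (888, 1), (888, 5), (889, 0), (889, 2), (889, 5), (892, 0), (892, 2), (892, 5), (894, 1), (894, 2), (894, 5), (895, 3), (895, 5), (897, 1), (897, 3), (898, 5), (899, 1), (902, 1), (902, 2), (903, 3), (905, 1), (907, 2), (908, 5), (910, 3), (911, 2), (911, 4), (912, 4), (913, 5), (915, 5), (916, 1), (917, 1), (917, 6), (918, 0), (924, 2), (925, 0), (925, 2), (925, 6), (926, 0), (926, 5), (927, 1), (932, 0), (932, 2), (932, 6), (933, 1), (933, 6), (938, 1), (939, 3), (941, 2), (941, 4), (941, 5), (944, 1), (944, 3), (944, 5), (944, 6), (945, 5), (947, 5), (949, 4), (950, 5), (954, 5), (956, 1), (956, 6), (957, 2), (958, 1), (959, 0), (959, 2), (959, 6), (960, 1), (965, 1), (966, 0), (966, 2), (966, 5), (967, 1), (969, 2), (970,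 1), (970, 2), (971, 3), (971, 5), (973, 1), (973, 2), (973, 6), (974, 3), (975, 1), (976, 0), (976, 2), (977, 2), (981, 1), (981, 2), (983, 0), (983, 6), (984, 1), (986, 2), (987, 3), (987, 5), (989, 2), (990, 1), (990, 3), (990, 5), (992, 5), (993, 1), (994, 0), (997, 1), (997, 2), (999, 2), (1000, 1), (1000, 3), (1001, 4), (1003, 5), (1005, 1), (1005, 6), (1007, 2), (1007, 5), (1008, 1), (1008, 3), (1008, 5), (1008, 6), (1011, 0), (1011, 5), (1011, 6), (1014, 1), (1016, 5), (1017, 1), (1018, 5), (1019, 6), (1020, 5), (1022, 2), (1023, 3), (1023, 6), (1025, 0), (1025, 2), (1025, 6), (1026, 0), (1027, 1), (1027, 2), (1027, 6), (1028, 3), (1028, 6), (1029, 5), (1030, 4), (1031, 0), (1032, 1), (1032, 2), (1033, 3), (1035, 0), (1036, 0), (1036, 2), (1036, 5), (1036, 6), (1039, 2), (1039, 4), (1040, 1), (1042, 6), (1043, 1), (1044, 0), (1045, 5), (1046, 1), (1046, 6), (1048, 2), (1048, 6), (1049, 0), (1049, 6), (1052, 1), (1053, 1), (1056, 1), (1057,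 0), (1058, 2), (1058, 6), (1061, 0), (1061, 6), (1062, 1), (1063, 0), (1063, 2), (1065, 1), (1065, 2), (1066, 3), (1066, 5), (1069, 5), (1071, 1), (1071, 6), (1072, 2), (1074, 3), (1075, 2), (1076, 3), (1077, 2), (1078, 3), (1078, 6), (1080, 5), (1081, 2), (1081, 5), (1083, 1), (1087, 5), (1088, 2), (1091, 5), (1092, 1), (1093, 0), (1094, 1), (1095, 1), (1095, 6), (1096, 0), (1096, 2), (1096, 6), (1097, 1), (1098, 1), (1099, 1), (1099, 2), (1099, 6), (1101, 1), (1101, 5), (1102, 0), (1105, 4), (1107, 2), (1109, 0), (1109, 2), (1109, 6), (1110, 2), (1111, 1), (1114, 5), (1115, 0), (1116, 2), (1117, 2), (1118, 1), (1120, 0), (1121, 1), (1123, 0), (1123, 3), (1123, 5), (1123, 6), (1124, 4), (1126, 1), (1127, 1), (1128, 1), (1129, 1), (1130, 0), (1130, 2), (1130, 6), (1131, 2), (1132, 6), (1134, 2), (1135, 3), (1137, 0), (1137, 2), (1138, 2), (1138, 6), (1141, 2), (1142, 1), (1142, 3), (1142, 6), (1143, 1), (1144, 2), (1144, 4), (1144, 6), (1145,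 5), (1148, 4), (1149, 1), (1151, 1), (1152, 0), (1152, 2), (1152, 6), (1153, 1), (1154, 3), (1155, 5), (1156, 1), (1157, 0), (1157, 2), (1158, 1), (1158, 2), (1159, 3), (1159, 6), (1161, 2), (1162, 1), (1162, 6), (1163, 1), (1164, 6), (1166, 1), (1167, 0), (1168, 6), (1169, 1), (1170, 0), (1170, 5), (1173, 0), (1174, 1), (1174, 2), (1175, 6), (1178, 0), (1178, 2), (1178, 5), (1178, 6), (1179, 1), (1179, 3), (1179, 6), (1181, 6), (1185, 1), (1185, 3), (1185, 5), (1185, 6), (1186, 2), (1186, 4), (1186, 5), (1186, 6), (1187, 6), (1188, 5), (1191, 1), (1191, 5), (1192, 0), (1192, 2), (1192, 5), (1194, 5), (1195, 1), (1195, 6), (1196, 0), (1198, 5), (1202, 1), (1203, 2), (1204, 1), (1206, 3), (1209, 2), (1210, 0), (1210, 2), (1210, 6), (1211, 2), (1211, 6), (1212, 3), (1212, 6), (1217, 1), (1217, 3), (1217, 6), (1219, 2), (1219, 4), (1219, 6), (1225, 1), (1227, 0), (1227, 3), (1227, 5), (1227, 6), (1230, 0), (1235, 2), (1238, 2), (1238, 6), (1240,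 1), (1241, 0), (1241, 2), (1244, 1), (1245, 2), (1245, 5), (1247, 2), (1248, 3), (1250, 2), (1251, 3), (1257, 1), (1258, 6), (1260, 1), (1261, 0), (1262, 2), (1268, 2), (1269, 3), (1273, 1), (1275, 0), (1278, 3), (1279, 1), (1284, 0), (1284, 2), (1284, 6), (1288, 6), (1289, 1), (1292, 1), (1292, 3), (1292, 5), (1295, 3), (1296, 5), (1298, 5), (1304, 2), (1305, 1), (1307, 0), (1307, 2), (1309, 3), (1311, 2), (1312, 2), (1313, 1), (1313, 2), (1314, 5), (1322, 2), (1327, 1), (1327, 2), (1330, 2), (1335, 3), (1337, 1), (1344, 1), (1345, 2), (1346, 1), (1347, 1), (1347, 3), (1348, 3), (1348, 5), (1348, 6), (1349, 4), (1352, 0), (1352, 6), (1354, 1), (1354, 3), (1354, 5), (1356, 0), (1356, 3), (1356, 6), (1357, 2), (1357, 4), (1357, 5), (1357, 6), (1358, 1), (1359, 1), (1360, 6), (1362, 5), (1363, 0), (1363, 6), (1366, 1), (1368, 1), (1369, 3), (1370, 2), (1370, 4), (1370, 6), (1372, 2), (1376, 2), (1379, 4), (1383, 1), (1384, 6), (1387, 1), (1388,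 2), (1389, 3), (1389, 5), (1392, 4), (1394, 5), (1396, 2), (1399, 2), (1399, 6), (1413, 2), (1414, 2), (1415, 3), (1417, 1), (1417, 3), (1418, 2), (1421, 2), (1423, 3), (1424, 2), (1424, 4), (1428, 4), (1431, 5), (1433, 2), (1436, 1), (1437, 2), (1439, 2), (1439, 6), (1440, 2), (1442, 2), (1443, 6), (1444, 1), (1444, 5), (1445, 2), (1446, 2), (1450, 0), (1466, 2), (1467, 1), (1467, 6), (1468, 4), (1469, 6), (1470, 5), (1473, 2), (1475, 6), (1483, 2), (1487, 1), (1487, 3), (1492, 4), (1493, 6), (1497, 6), (1500, 3), (1507, 3), (1509, 3), (1513, 6), (1516, 1), (1517, 0), (1523, 1), (1525, 1), (1531, 5), (1531, 6), (1532, 6), (1536, 2), (1536, 5), (1536, 6), (1538, 1), (1539, 6), (1540, 6), (1541, 6), (1542, 5), (1551, 6), (1557, 2), (1561, 6), (1563, 6), (1565, 2), (1567, 3), (1568, 2), (1574, 3), (1574, 6), (1577, 5), (1582, 5), (1583, 2), (1584, 3), (1586, 5), (1596, 3), (1597, 1), (1602, 2), (1603, 2), (1604, 6), (1608, 3), (1613, 1), (1615,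 2), (1616, 2), (1621, 2), (1622, 1), (1625, 2), (1630, 0), (1630, 2), (1630, 6), (1635, 6), (1642, 2), (1642, 4), (1642, 5), (1647, 1), (1647, 3), (1648, 6), (1649, 1), (1655, 6), (1688, 1), (1690, 2), (1696, 1), (1696, 5), (1697, 2), (1729, 1), (1752, 1), (1758, 1), (1775, 2)], 1782⟩

def lev1 : Level :=
  ⟨1, [[0], [1], [2], [3], [4], [5]], [(1, 1), (2, 0), (2, 2), (2, 5), (3, 1), (3, 2), (4, 3), (4, 5), (6, 2), (7, 1), (7, 3), (8, 2), (8, 4), (8, 5), (9, 1), (10, 1), (10, 3), (11, 0), (11, 3), (11, 5), (12, 2), (12, 4), (13, 1), (13, 4), (13, 5), (14, 5), (15, 1), (17, 0), (17, 3), (17, 5), (18, 2), (18, 4), (19, 1), (19, 3), (19, 5), (20, 2), (20, 4), (20, 5), (23, 1), (23, 4), (25, 0), (25, 4), (25, 5), (26, 3), (26, 5), (27, 1), (28, 1), (29, 2), (22, 3), (22, 5), (31, 2), (31, 4), (31, 5), (33, 1), (33, 4), (35, 4), (35, 5), (37, 1), (37, 3), (37, 4), (37, 5), (38, 5), (42, 0), (42, 4), (42, 5), (43, 3), (44, 1), (44, 4), (44, 5), (45,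 3), (45, 5), (46, 1), (48, 2), (48, 5), (49, 1), (51, 2), (40, 4), (40, 5), (41, 1), (53, 1), (53, 4), (53, 5), (54, 5), (56, 4), (56, 5), (57, 3), (58, 5), (60, 0), (60, 3), (60, 4), (60, 5), (61, 2), (61, 4), (61, 5), (62, 3), (62, 5), (63, 1), (69, 4), (69, 5), (70, 3), (70, 5), (73, 2), (64, 4), (64, 5), (74, 3), (74, 5), (75, 1), (77, 2), (77, 5), (78, 1), (83, 1), (83, 5), (84, 1), (66, 5), (67, 1), (87, 4), (87, 5), (88, 3), (88, 5), (89, 1), (91, 3), (91, 5), (93, 2), (95, 1), (95, 4), (95, 5), (96, 4), (96, 5), (97, 3), (97, 5), (98, 1), (100, 4), (100, 5), (101, 3), (101, 5), (102, 1), (103, 2), (103, 5), (104, 1), (106, 0), (110, 3), (110, 5), (111, 1), (113, 2), (113, 5), (118, 1), (105, 3), (105, 5), (107, 1), (119, 2), (119, 5), (120, 1), (122, 0), (122, 2), (123, 1), (123, 3), (123, 5), (124, 1), (131, 0), (131, 5), (132, 1), (133, 2), (108, 1), (109, 2), (134, 3), (134, 5), (135, 1), (136, 2), (136, 5), (137, 1), (138, 0), (139,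 2), (139, 5), (142, 1), (143, 4), (143, 5), (144, 3), (144, 5), (145, 1), (147, 3), (147, 5), (148, 1), (150, 2), (150, 5), (151, 1), (153, 0), (156, 3), (156, 5), (141, 1), (157, 2), (157, 5), (158, 1), (159, 0), (159, 2), (160, 1), (160, 5), (161, 1), (163, 0), (165, 1), (170, 2), (170, 5), (171, 1), (173, 0), (173, 2), (174, 1), (174, 3), (174, 5), (181, 0), (181, 5), (162, 2), (162, 5), (164, 1), (167, 0), (167, 2), (182, 1), (182, 3), (182, 5), (183, 1), (185, 0), (185, 2), (186, 1), (186, 2), (187, 3), (189, 0), (189, 3), (189, 5), (190, 4), (190, 5), (191, 1), (193, 2), (203, 1), (203, 5), (204, 1), (206, 0), (206, 2), (168, 2), (169, 3), (208, 2), (208, 5), (209, 1), (211, 1), (211, 5), (212, 1), (213, 0), (216, 1), (216, 3), (216, 5), (220, 0), (220, 5), (221, 3), (221, 5), (224, 2), (224, 5), (225, 1), (229, 2), (229, 5), (230, 1), (232, 0), (235, 1), (235, 3), (235, 5), (236, 1), (238, 0), (242, 2), (242, 5), (218, 1), (243, 1), (243,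 3), (243, 5), (244, 1), (245, 0), (245, 2), (166, 1), (247, 0), (247, 5), (248, 1), (250, 0), (250, 2), (252, 1), (261, 1), (261, 3), (261, 5), (262, 1), (264, 0), (264, 2), (268, 0), (268, 3), (268, 5), (269, 2), (269, 4), (269, 5), (270, 1), (280, 1), (280, 5), (249, 1), (249, 5), (251, 1), (254, 0), (254, 2), (257, 2), (258, 3), (283, 0), (283, 3), (283, 5), (284, 4), (284, 5), (285, 1), (287, 0), (287, 2), (288, 1), (288, 2), (292, 3), (295, 1), (295, 3), (295, 5), (296, 2), (296, 4), (296, 5), (297, 1), (299, 5), (300, 1), (302, 0), (302, 2), (319, 0), (319, 2), (319, 5), (320, 1), (322, 0), (322, 2), (325, 1), (325, 2), (328, 1), (328, 3), (328, 5), (329, 1), (331, 0), (331, 5), (332, 1), (333, 0), (333, 2), (336, 0), (336, 3), (336, 5), (337, 2), (337, 5), (338, 1), (341, 1), (341, 5), (344, 2), (344, 5), (348, 1), (348, 5), (349, 1), (353, 1), (353, 3), (353, 5), (354, 1), (356, 0), (359, 0), (359, 3), (359, 5), (360, 4), (360, 5), (361,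 1), (363, 0), (363, 2), (367, 1), (367, 5), (339, 1), (368, 0), (368, 3), (368, 5), (369, 5), (370, 1), (371, 0), (371, 2), (253, 1), (372, 3), (373, 1), (373, 5), (374, 1), (376, 0), (376, 2), (379, 1), (379, 2), (380, 3), (389, 0), (389, 3), (389, 5), (390, 4), (390, 5), (391, 1), (393, 0), (393, 2), (395, 3), (397, 1), (397, 3), (397, 5), (398, 2), (398, 4), (398, 5), (399, 1), (401, 1), (401, 4), (401, 5), (402, 5), (403, 1), (405, 0), (417, 0), (417, 2), (417, 5), (418, 1), (377, 0), (377, 5), (378, 1), (382, 0), (382, 2), (385, 2), (387, 3), (422, 1), (422, 3), (422, 5), (423, 2), (423, 4), (423, 5), (424, 1), (426, 5), (427, 1), (429, 0), (429, 2), (431, 1), (431, 2), (440, 0), (440, 2), (440, 3), (440, 5), (441, 2), (441, 4), (441, 5), (442, 1), (444, 3), (444, 4), (444, 5), (445, 5), (446, 1), (448, 0), (448, 2), (452, 1), (454, 0), (454, 2), (458, 1), (458, 2), (327, 2), (327, 5), (475, 3), (475, 5), (476, 1), (477, 0), (477, 2), (479,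 1), (479, 2), (482, 0), (482, 2), (482, 5), (483, 1), (486, 0), (486, 3), (486, 5), (487, 5), (488, 1), (489, 2), (490, 1), (490, 5), (491, 1), (493, 0), (493, 2), (494, 2), (495, 3), (497, 1), (497, 3), (497, 5), (498, 2), (498, 5), (499, 1), (501, 1), (501, 5), (502, 1), (503, 0), (506, 0), (506, 2), (506, 5), (507, 1), (510, 1), (510, 3), (510, 5), (514, 0), (514, 5), (515, 1), (517, 2), (519, 0), (519, 3), (519, 5), (520, 4), (520, 5), (521, 1), (523, 0), (523, 2), (526, 1), (526, 5), (527, 4), (527, 5), (528, 1), (530, 5), (531, 1), (533, 0), (533, 2), (537, 2), (538, 3), (539, 0), (539, 5), (504, 1), (505, 2), (540, 1), (540, 3), (540, 5), (541, 2), (541, 5), (542, 1), (544, 1), (545, 0), (545, 2), (381, 1), (381, 2), (546, 3), (547, 2), (548, 0), (548, 2), (548, 5), (549, 1), (551, 0), (551, 2), (555, 1), (555, 2), (556, 3), (561, 2), (562, 1), (562, 3), (563, 2), (563, 4), (570, 1), (570, 3), (570, 5), (571, 2), (571, 4), (571, 5), (572,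 1), (574, 5), (575, 1), (577, 0), (577, 2), (579, 2), (580, 3), (582, 2), (583, 0), (583, 2), (583, 3), (583, 5), (584, 4), (584, 5), (585, 1), (587, 1), (587, 4), (587, 5), (588, 5), (589, 1), (591, 0), (595, 0), (595, 4), (595, 5), (596, 3), (596, 5), (597, 1), (599, 1), (601, 0), (601, 2), (605, 1), (343, 5), (616, 5), (508, 1), (617, 0), (617, 2), (558, 1), (558, 5), (559, 1), (560, 0), (560, 2), (566, 2), (620, 0), (620, 3), (621, 2), (621, 4), (621, 5), (624, 3), (624, 4), (624, 5), (625, 5), (626, 1), (627, 0), (627, 2), (631, 1), (633, 0), (633, 2), (635, 1), (635, 2), (636, 3), (640, 2), (645, 2), (645, 3), (645, 5), (646, 3), (646, 5), (647, 2), (647, 4), (647, 5), (648, 1), (650, 1), (650, 4), (650, 5), (651, 5), (652, 1), (637, 0), (637, 2), (629, 4), (629, 5), (655, 5), (656, 1), (657, 1), (659, 0), (659, 2), (663, 1), (663, 2), (667, 0), (667, 2), (671, 1), (671, 2), (672, 3), (675, 0), (676, 1), (484, 3), (484, 5), (485, 1), (550,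 2), (550, 5), (691, 1), (692, 0), (692, 2), (693, 1), (693, 2), (694, 3), (699, 0), (699, 2), (699, 5), (700, 1), (704, 2), (704, 5), (705, 1), (705, 5), (707, 0), (707, 5), (492, 3), (492, 5), (710, 2), (710, 5), (711, 1), (712, 1), (713, 0), (713, 2), (714, 3), (500, 5), (715, 1), (716, 0), (716, 2), (718, 1), (718, 2), (719, 3), (721, 1), (722, 4), (724, 0), (724, 2), (724, 5), (725, 5), (726, 1), (727, 1), (728, 1), (730, 0), (733, 0), (733, 5), (734, 1), (735, 0), (735, 2), (736, 1), (740, 2), (740, 5), (741, 5), (742, 1), (743, 0), (743, 2), (746, 0), (746, 3), (746, 5), (747, 5), (748, 1), (751, 5), (753, 0), (755, 1), (755, 3), (755, 5), (756, 2), (756, 4), (756, 5), (757, 1), (759, 5), (760, 1), (762, 0), (762, 2), (565, 2), (766, 3), (767, 5), (770, 1), (771, 0), (773, 1), (774, 0), (774, 2), (777, 1), (777, 2), (783, 1), (783, 3), (784, 4), (785, 5), (786, 1), (738, 0), (738, 2), (739, 3), (788, 3), (788, 5), (789, 5), (790, 1), (792,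 3), (793, 1), (795, 0), (795, 2), (798, 0), (798, 2), (799, 1), (799, 2), (800, 3), (496, 2), (564, 1), (564, 3), (802, 2), (802, 4), (803, 1), (803, 3), (804, 5), (805, 3), (805, 5), (806, 1), (807, 0), (807, 2), (808, 1), (808, 2), (813, 0), (813, 2), (813, 5), (814, 1), (814, 3), (816, 4), (825, 1), (825, 3), (826, 0), (826, 3), (826, 5), (827, 4), (828, 4), (835, 2), (835, 4), (835, 5), (836, 1), (838, 5), (839, 5), (840, 1), (842, 0), (842, 2), (846, 1), (848, 0), (848, 2), (850, 1), (850, 2), (851, 3), (855, 1), (855, 3), (858, 1), (858, 3), (860, 5), (529, 4), (861, 1), (862, 5), (863, 1), (852, 0), (852, 2), (867, 1), (869, 0), (869, 2), (872, 1), (876, 3), (878, 5), (881, 2), (882, 0), (882, 2), (886, 2), (887, 3), (509, 1), (731, 1), (744, 0), (744, 2), (902, 1), (902, 2), (903, 3), (820, 0), (820, 2), (822, 1), (822, 2), (823, 3), (910, 3), (911, 2), (911, 4), (912, 4), (912, 5), (913, 5), (425, 4), (425, 5), (915, 5), (916, 1), (917,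 1), (918, 0), (918, 2), (920, 1), (920, 2), (921, 3), (925, 0), (925, 2), (927, 1), (927, 2), (928, 3), (932, 0), (932, 2), (932, 5), (933, 1), (933, 3), (935, 2), (939, 3), (794, 3), (794, 5), (941, 2), (941, 4), (941, 5), (791, 2), (944, 1), (944, 3), (944, 5), (945, 5), (949, 4), (950, 5), (952, 1), (934, 1), (934, 2), (844, 5), (923, 1), (956, 1), (957, 0), (957, 2), (959, 0), (959, 2), (967, 1), (973, 1), (973, 2), (974, 3), (977, 0), (977, 2), (922, 4), (983, 0), (375, 5), (708, 1), (709, 0), (709, 2), (997, 1), (997, 2), (999, 0), (999, 2), (999, 5), (1000, 1), (1000, 3), (1001, 4), (1007, 2), (1007, 5), (1008, 1), (1008, 3), (1008, 5), (1011, 0), (1011, 5), (1015, 5), (1006, 1), (1016, 5), (1017, 1), (1018, 5), (553, 5), (717, 1), (821, 1), (1025, 0), (1025, 2), (1026, 0), (1026, 2), (1027, 1), (1027, 2), (1028, 3), (1030, 4), (1031, 0), (1031, 2), (1032, 1), (1032, 2), (1033, 3), (1036, 0), (1036, 2), (1036, 5), (1037, 1), (1037, 3),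 (1039, 2), (1039, 4), (796, 0), (1045, 5), (841, 5), (1046, 1), (1047, 1), (1048, 0), (1048, 2), (1049, 0), (1052, 1), (787, 5), (1056, 1), (1057, 0), (1057, 2), (1058, 1), (1058, 2), (1059, 3), (1061, 0), (1069, 5), (1071, 1), (1072, 2), (1010, 2), (1074, 3), (1080, 5), (1081, 2), (1081, 5), (1083, 1), (1085, 0), (772, 1), (1087, 5), (1088, 2), (1091, 3), (1091, 5), (1092, 1), (1093, 0), (1095, 1), (1096, 0), (1096, 2), (1099, 1), (1099, 2), (1100, 3), (832, 1), (832, 3), (1105, 4), (1107, 2), (1110, 2), (1112, 1), (1112, 2), (1113, 3), (1117, 0), (1117, 2), (1117, 5), (1118, 1), (1123, 0), (1123, 3), (1123, 5), (1124, 4), (1126, 1), (1067, 0), (1067, 2), (1065, 1), (1065, 2), (1066, 3), (1020, 5), (1128, 1), (1129, 1), (1130, 0), (1130, 2), (1131, 2), (1132, 0), (1134, 1), (1134, 2), (1135, 3), (1138, 1), (1138, 2), (1141, 0), (1141, 2), (1141, 5), (1142, 1), (1142, 3), (1144, 2), (1144, 4), (723, 1), (831, 0), (831, 3), (831, 5), (830, 4),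 (1043, 4), (1136, 0), (1136, 3), (1136, 5), (1148, 4), (1149, 1), (1150, 5), (1151, 1), (1152, 0), (1152, 2), (1153, 1), (1153, 2), (1154, 3), (1064, 0), (1064, 2), (1064, 5), (1156, 1), (1161, 2), (1161, 5), (1162, 1), (1162, 5), (1183, 5), (1185, 1), (1185, 3), (1185, 5), (1186, 2), (1186, 4), (1186, 5), (1197, 5), (1198, 5), (1201, 1), (1202, 1), (1203, 0), (1203, 2), (1205, 1), (1205, 2), (1206, 3), (1210, 0), (1210, 2), (1211, 2), (1212, 3), (1217, 1), (1217, 3), (1219, 2), (1219, 4), (1223, 0), (1223, 5), (1227, 0), (1227, 3), (1227, 5), (1229, 1), (1213, 0), (1213, 2), (1218, 1), (1218, 2), (1220, 3), (1230, 0), (1233, 2), (843, 0), (1235, 2), (1238, 2), (1239, 3), (1242, 3), (1055, 2), (745, 2), (1262, 2), (1263, 1), (1174, 1), (1174, 2), (1175, 3), (1178, 0), (1178, 2), (1178, 5), (1179, 1), (1179, 3), (1268, 2), (1269, 3), (1271, 5), (630, 1), (1273, 1), (1275, 0), (1275, 2), (1277, 1), (673, 3), (677, 2), (677, 5), (1169, 1), (1169,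 3), (1166, 2), (1279, 1), (1279, 2), (1284, 0), (1284, 2), (1284, 5), (1171, 2), (810, 3), (1291, 4), (1292, 1), (1292, 3), (1292, 5), (1295, 3), (1296, 5), (988, 2), (988, 5), (1289, 1), (1208, 1), (986, 2), (1304, 0), (1304, 2), (1309, 3), (1316, 0), (1322, 2), (1323, 3), (1325, 4), (1300, 2), (554, 1), (1021, 0), (1021, 2), (1022, 2), (1023, 3), (1345, 2), (1346, 1), (1079, 2), (1347, 1), (1347, 3), (1347, 5), (1348, 0), (1348, 3), (1348, 5), (1349, 4), (1354, 1), (1354, 3), (1354, 5), (1356, 0), (1356, 3), (1356, 5), (1357, 2), (1357, 4), (1357, 5), (1358, 1), (1360, 5), (1077, 2), (1364, 1), (1365, 0), (1366, 1), (811, 1), (1035, 0), (1035, 2), (1177, 0), (1372, 1), (1372, 2), (1375, 2), (1376, 2), (1377, 1), (1377, 3), (1379, 4), (1383, 1), (1388, 2), (1389, 1), (1389, 3), (1389, 5), (1362, 0), (1362, 3), (1362, 5), (1160, 2), (1392, 3), (1392, 4), (1398, 1), (1204, 1), (1399, 0), (1399, 2), (1396, 2), (1401, 3), (1127, 1), (1407, 0),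 (1408, 2), (1140, 3), (1409, 1), (1029, 4), (1421, 0), (1421, 2), (1423, 3), (1359, 1), (1359, 3), (1424, 2), (1424, 4), (1431, 5), (1433, 2), (1109, 2), (1436, 1), (1437, 2), (1440, 2), (1442, 2), (1447, 5), (1196, 5), (1193, 4), (1246, 5), (1467, 1), (1468, 4), (1472, 0), (1163, 1), (1163, 2), (1419, 3), (1417, 1), (1417, 3), (1418, 2), (1368, 1), (1474, 0), (1474, 2), (985, 5), (1485, 1), (1176, 2), (1176, 5), (1487, 1), (1487, 3), (1487, 5), (1489, 2), (1492, 3), (1492, 4), (1044, 5), (1194, 5), (1192, 2), (1192, 5), (1498, 2), (1500, 3), (1478, 3), (1503, 2), (1503, 4), (1053, 5), (893, 5), (1414, 1), (1415, 1), (1536, 2), (1536, 5), (1537, 1), (1555, 0), (1519, 1), (1519, 3), (1565, 2), (1567, 3), (1568, 2), (1568, 4), (1495, 5), (1574, 1), (1574, 3), (1562, 2), (1564, 1), (1564, 2), (1566, 3), (1252, 0), (1252, 2), (1252, 5), (1523, 1), (1580, 3), (1137, 2), (1596, 1), (1596, 3), (1524, 2), (1525, 1), (1525, 3), (1528, 5), (1531, 0),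 (1531, 3), (1531, 5), (1597, 1), (924, 2), (1600, 1), (1520, 3), (817, 2), (1602, 2), (1603, 2), (1604, 1), (1608, 3), (1337, 1), (1337, 3), (1337, 5), (1250, 2), (1335, 3), (1614, 3), (1613, 1), (812, 0), (812, 2), (1370, 2), (1429, 1), (1429, 3), (1634, 5), (1371, 1), (1641, 0), (1641, 3), (1642, 2), (1642, 4), (1642, 5), (1644, 3), (1645, 2), (1645, 4), (1645, 5), (1637, 1), (1647, 1), (1647, 3), (1649, 1), (1651, 0), (1402, 0), (1402, 3), (1557, 2), (1675, 3), (1674, 3), (1473, 2), (1245, 2), (1683, 3), (1684, 2), (1688, 1), (1456, 3), (1690, 2), (1515, 0), (1514, 3), (1680, 3), (1681, 2), (1526, 3), (1526, 5), (1711, 3), (1712, 2), (1712, 5), (1713, 3), (1716, 2), (1709, 2), (1188, 3), (1677, 3), (1740, 2), (1509, 3), (1209, 2), (1278, 3), (1752, 1), (1629, 3), (1593, 2), (1745, 2), (1159, 3), (1731, 4), (1729, 1), (1764, 1), (1720, 5)], 1365⟩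

def lev2 : Level :=
  ⟨16, [[0], [2], [3], [4], [5], [1, 0, 2, 1, 3, 2, 0, 1, 5, 2, 3, 2, 1]], [(16, 2), (29, 1), (29, 3), (52, 2), (52, 3), (52, 5), (51, 5), (30, 5), (86, 5), (109, 1), (109, 3), (1690, 1), (1690, 2), (1690, 5), (68, 5), (1773, 1), (1773, 2), (169, 3), (1774, 2)], 20⟩

def lev3 : Level :=
  ⟨29, [[0], [2], [4], [5], [1, 0, 2, 1, 3, 2, 0, 1, 5, 2, 3, 2, 1], [3, 1, 0, 2, 1, 3, 2, 0, 1, 5, 2, 3, 2, 1, 3]], [(29, 1), (29, 2), (52, 2), (52, 4), (51, 4), (51, 5), (86, 4), (86, 5), (109, 1), (109, 2), (1690, 1), (1690, 4), (1755, 1), (1755, 5), (169, 2)], 16⟩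

def lev4 : Level :=
  ⟨30, [[0], [5], [1, 0, 2, 1, 3, 2, 0, 1, 5, 2, 3, 2, 1], [3, 1, 0, 2, 1, 3, 2, 0, 1, 5, 2, 3, 2, 1, 3], [4, 3, 1, 0, 2, 1, 3, 2, 0, 1, 5, 2, 3, 2, 1, 3, 4, 1, 2, 3, 2, 5, 1, 0, 2, 3, 1, 2, 0, 1, 4]], [(30, 2), (68, 2)], 3⟩

def lev5 : Level :=
  ⟨228, [[0], [5], [4, 3, 1, 0, 2, 1, 3, 2, 0, 1, 5, 2, 3, 2, 1, 3, 4, 1, 2, 3, 2, 5, 1, 0, 2, 3, 1, 2, 0, 1, 4], [3, 1, 0, 2, 1, 3, 2, 0, 1, 5, 2, 3, 2, 1, 3, 1, 2, 3, 2, 5, 1, 0, 2, 3, 1, 2, 0, 1], [1, 0, 2, 1, 3, 2, 0, 1, 5, 2, 3, 2, 1, 4, 3, 1, 0, 2, 1, 3, 2, 0, 1, 5, 2, 3, 2, 1, 3, 4, 1, 2, 3, 2, 5, 1, 0, 2, 3, 1, 2, 0, 1, 4, 1, 2, 3, 2, 5, 1, 0, 2, 3, 1, 2, 0, 1]], [(228, 1), (228, 4), (347, 4), (1775, 2), (1775, 4), (1781, 2), (1781, 4)], 8⟩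

def lev6 : Level :=
  ⟨51, [[0], [4, 3, 1, 0, 2, 1, 3, 2, 0, 1, 5, 2, 3, 2, 1, 3, 4, 1, 2, 3, 2, 5, 1, 0, 2, 3, 1, 2, 0, 1, 4], [3, 1, 0, 2, 1, 3, 2, 0, 1, 5, 2, 3, 2, 1, 3, 1, 2, 3, 2, 5, 1, 0, 2, 3, 1, 2, 0, 1]], [(51, 1), (51, 2), (1754, 1), (1773, 1), (1608, 2)], 6⟩

def lev7 : Level :=
  ⟨304, [[0], [3, 1, 0, 2, 1, 3, 2, 0, 1, 5, 2, 3, 2, 1, 3, 1, 2, 3, 2, 5, 1, 0, 2, 3, 1, 2, 0, 1, 4, 3, 1, 0, 2, 1, 3, 2, 0, 1, 5, 2, 3, 2, 1, 3, 4, 1, 2, 3, 2, 5, 1, 0, 2, 3, 1, 2, 0, 1, 4, 3, 1, 0, 2, 1, 3, 2, 0, 1, 5, 2, 3, 2, 1, 3, 1, 2, 3, 2, 5, 1, 0, 2, 3, 1, 2, 0, 1]], [(304, 1)], 2⟩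

def lev8 : Level :=
  ⟨2, [[0]], [(2, 0)], 2⟩

/-- the chain -/
def levels : List Level := [lev0, lev1, lev2, lev3, lev4, lev5, lev6, lev7, lev8]

theorem total_eq : total levels = 448345497600 := by decide +kernel

theorem chain_ok : chainOK Suz1782.data [] levels = true := by decide +kernel

end CfsgLib.Recog.SporBound.SuzChain
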